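import Mathlib
import Cfsg.Agent.Helper58.Marggraf
import Cfsg.Agent.Helper60.Marg.Defs

/-!
# S3620 (Marggraf) piece (CA) for helper60: the arithmetic forcing `e = 2` (helper59)
-/

set_option autoImplicit false

namespace Cfsg.Agent.Helper59.Marg

open Cfsg.Agent.Helper60.Marg Cfsg.Agent.Helper58 MulAction

/-- (CA) -/
theorem e_eq_two (m t e : ℕ) (ht4 : 4 ≤ t) (htm : t < m) (he : 2 ≤ e)
    (h2 : (m + 3 - t) * (e - 1) ≤ m - 1)
    (hT : (t + 1) * e ≤ m + 1 ∨ (m + 2 = t + e ∧ (t + 1) * e ≤ 2 * m + 1)) : e = 2 := by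
  by_contra hne
  have he3 : 3 ≤ e := by omega
  obtain ⟨a, rfl⟩ : ∃ a, m = t + 1 + a := ⟨m - t - 1, by omega⟩
  obtain ⟨f, rfl⟩ : ∃ f, e = f + 3 := ⟨e - 3, by omega⟩
  have h2' : (a + 4) * (f + 2) ≤ t + a := by
    have e1 : t + 1 + a + 3 - t = a + 4 := by omega
    have e2 : f + 3 - 1 = f + 2 := by omega
    have e3 : t + 1 + a - 1 = t + a := by omega
    rw [e1, e2, e3] at h2; exact h2
  rcases hT with hT | ⟨hT1, hT2⟩
  · have h3 : (a + 4) * 2 ≤ (a + 4) * (f + 2) := Nat.mul_le_mul_left _ (by omega)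
    have h4 : (t + 1) * 3 ≤ (t + 1) * (f + 3) := Nat.mul_le_mul_left _ (by omega)
    omega
  · have haf : a = f := by omega
    subst haf
    have h3 : (a + 4) * (a + 2) = a * a + 6 * a + 8 := by ring
    have h4 : (t + 1) * 3 ≤ (t + 1) * (a + 3) := Nat.mul_le_mul_left _ (by omega)
    have h5 : 0 ≤ a * a := Nat.zero_le _
    omega

end Cfsg.Agent.Helper59.Marg
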