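import Mathlib
import Cfsg.Agent.Helper58.Marggraf
import Cfsg.Agent.Helper60.Marg.Defs

/-!
# S3620 (Marggraf) piece (CDC1) for helper60: no block meets `Δ` in exactly `t` points (helper59)
-/

set_option autoImplicit false
set_option linter.unusedVariables false

namespace Cfsg.Agent.Helper59.Marg

open Cfsg.Agent.Helper60.Marg Cfsg.Agent.Helper58 MulAction

variable {Ω : Type*} [DecidableEq Ω] [Fintype Ω]

/-- (CDC1) -/
theorem stSys_B_t_eq_zero {t : ℕ} {Δ : Finset Ω} (S : StSys Ω t 2 Δ) (ht1 : 1 ≤ t) :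
    S.B t = 0 := by
  unfold StSys.B
  rw [Finset.card_eq_zero, Finset.filter_eq_empty_iff]
  intro Qb hQb hcard
  unfold StSys.blocks at hQb
  obtain ⟨X, hX, rfl⟩ := Finset.mem_image.1 hQb
  have hXc : X.card = t := (Finset.mem_powersetCard.1 hX).2
  have hsub : S.Q X ∩ Δ ⊆ S.Q X := Finset.inter_subset_left
  have heq : S.Q (S.Q X ∩ Δ) = S.Q X := S.eq X _ hXc hcard hsub
  have hin : S.Q (S.Q X ∩ Δ) ⊆ Δ := S.inΔ _ hcard Finset.inter_subset_right
  rw [heq] at hin
  have h1 : S.Q X ∩ Δ = S.Q X := Finset.inter_eq_left.2 hin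
  have h2 := S.card X hXc
  rw [h1] at hcard
  omega

end Cfsg.Agent.Helper59.Marg
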